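import Groth.Agent.Lib.Flag27.FixedFraction
import Groth.Agent.Lib.Flag27.UnipRad
import Groth.Agent.Lib.Induce27.Fraction

/-!
# Fixed nilpotents and fixed zero divisors of unipotent groups
-/

set_option autoImplicit false
set_option linter.all false

universe u

open CategoryTheory MonoidalCategory CartesianMonoidalCategory MonObj GrpObj AlgebraicGeometry VecGrp
open scoped TensorProduct

noncomputable section

namespace GrothLib.UnipNil1

open GrothLib.Repr GrothLib.Induce27 GrothLib.Flag27 Groth.Agent.S11191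

variable {k : Type u} [Field k] [IsAlgClosed k] {H : Over (Spec (CommRingCat.of k))} [GrpObj H] [IsAffine H.left]
  [Smooth H.hom] [ConnectedSpace H.left] [QuasiCompact H.hom] {A : Type u} [CommRing A] [Algebra k A] (σ : GMod H A)

theorem kAct_mul_alg (hσ : σ.IsMult) (x : pt k k ⟶ H) (y z : A) : kAct σ x (y * z) = kAct σ x y * kAct σ x z := by
  have e : (1 : k) ⊗ₜ[k] kAct σ x (y * z) = (1 : k) ⊗ₜ[k] (kAct σ x y * kAct σ x z) := by
    rw [← rho_one_tmul, show (1 : k) ⊗ₜ[k] (y * z) = ((1 : k) ⊗ₜ[k] y) * ((1 : k) ⊗ₜ[k] z) by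
      rw [Algebra.TensorProduct.tmul_mul_tmul, _root_.mul_one], (hσ k x).1, rho_one_tmul, rho_one_tmul,
      Algebra.TensorProduct.tmul_mul_tmul, _root_.mul_one]
  simpa using congrArg (TensorProduct.lid k A) e

theorem kAct_one_alg (hσ : σ.IsMult) (x : pt k k ⟶ H) : kAct σ x 1 = 1 := by
  have e : (1 : k) ⊗ₜ[k] kAct σ x (1 : A) = (1 : k) ⊗ₜ[k] (1 : A) := by
    rw [← rho_one_tmul, ← Algebra.TensorProduct.one_def]
    exact (hσ k x).2
  simpa using congrArg (TensorProduct.lid k A) e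

theorem isNilpotent_kAct (hσ : σ.IsMult) (x : pt k k ⟶ H) {y : A} (hy : IsNilpotent y) : IsNilpotent (kAct σ x y) := by
  obtain ⟨n, hn⟩ := hy
  refine ⟨n, ?_⟩
  have : ∀ m : ℕ, kAct σ x (y ^ m) = kAct σ x y ^ m := fun m => by
    induction m with
    | zero => rw [pow_zero, pow_zero, kAct_one_alg σ hσ]
    | succ m ih => rw [pow_succ, pow_succ, kAct_mul_alg σ hσ, ih]
  rw [← this, hn, map_zero]

/-- A nonzero stable subspace contains a nonzero fixed vector. -/
theorem exists_fixed (hs : Group.IsSolvable (pt k k ⟶ H))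
    (hχ : ∀ (χ : H ⟶ Red.Gm (Spec (CommRingCat.of k))), IsMonHom χ → χ = 1)
    (I : Submodule k A) (hI : ∀ x : pt k k ⟶ H, ∀ v ∈ I, kAct σ x v ∈ I) {v : A} (hv : v ∈ I) (hv0 : v ≠ 0) :
    ∃ w ∈ I, w ≠ 0 ∧ w ∈ σ.fixedUnder (𝟙 H) := by
  haveI := hs
  haveI : LocallyOfFiniteType H.hom := inferInstance
  obtain ⟨N, hN, hst, hmem⟩ := exists_stable σ {v}
  haveI := hN
  have hsub : ∀ (x : pt k k ⟶ H) (w : N), ((kAct (subGMod σ N hst) x w : N) : A) = kAct σ x w.1 := fun x w => by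
    have e : (1 : k) ⊗ₜ[k] ((kAct (subGMod σ N hst) x w : N) : A) = (1 : k) ⊗ₜ[k] kAct σ x w.1 := by
      rw [← rho_one_tmul, show (1 : k) ⊗ₜ[k] (w : A) = N.subtype.baseChange k ((1 : k) ⊗ₜ[k] w) by
          rw [LinearMap.baseChange_tmul]; rfl, ← res_spec σ N hst, ← subGMod_apply, rho_one_tmul,
        LinearMap.baseChange_tmul]
      rfl
    simpa using congrArg (TensorProduct.lid k A) e
  obtain ⟨w, hwI, hw0, hw⟩ := exists_eigen_gmod (subGMod σ N hst) (I.comap N.subtype)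
    (fun x w hw => by
      show ((kAct (subGMod σ N hst) x w : N) : A) ∈ I
      rw [hsub]
      exact hI x _ hw)
    (by
      intro hbot
      have hmb : (⟨v, hmem v (Finset.mem_singleton_self _)⟩ : N) ∈ I.comap N.subtype := hv
      rw [hbot, Submodule.mem_bot] at hmb
      exact hv0 (congrArg Subtype.val hmb))
  have hwA : (w : A) ≠ 0 := fun h => hw0 (Subtype.ext h)
  refine ⟨w, hwI, hwA, fixedUnder_of_valAt σ _ fun t => ?_⟩
  rw [Category.comp_id, rho_one_tmul, kAct_eq_of_eigen σ hχ hwA (fun y => by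
    obtain ⟨c, hc⟩ := hw y
    exact ⟨c, by rw [← hsub, hc]; rfl⟩) t]

theorem valAt_coeff_kAct (α : Module.Dual k A) (a : A) (y : pt k k ⟶ H) :
    valAt y (coeff σ α a) = α (kAct σ y a) := by
  rw [valAt_coeff, rho_one_tmul, cf_tmul, smul_eq_mul, _root_.mul_one]

/-- Translates of the factors of a zero product multiply to zero in a reduced algebra. -/
theorem kAct_mul_kAct_eq_zero (hσ : σ.IsMult) [_root_.IsReduced A] {a b : A} (hab : a * b = 0) (g g' : pt k k ⟶ H) :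
    kAct σ g a * kAct σ g' b = 0 := by
  haveI : IsDomain (Fn H) := isDomain_fn_aux (G := H)
  by_contra hne
  obtain ⟨p, hp, hnp⟩ : ∃ p : Ideal A, p.IsPrime ∧ kAct σ g a * kAct σ g' b ∉ p := by
    by_contra h
    push Not at h
    exact hne (IsNilpotent.eq_zero (nilpotent_iff_mem_prime.2 fun J hJ => h J hJ))
  have hprod : ∀ y : pt k k ⟶ H, kAct σ y a * kAct σ y b = 0 := fun y => by
    rw [← kAct_mul_alg σ hσ, hab, map_zero]
  have hdual : ∀ {z : A}, z ∉ p → ∃ α : Module.Dual k A, (∀ q ∈ p, α q = 0) ∧ α z ≠ 0 := fun {z} hz => by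
    obtain ⟨β, hβ⟩ : ∃ β : Module.Dual k (A ⧸ p), β (Ideal.Quotient.mk p z) ≠ 0 := by
      by_contra h
      push Not at h
      exact hz (Ideal.Quotient.eq_zero_iff_mem.1 ((Module.forall_dual_apply_eq_zero_iff k _).1 h))
    exact ⟨β ∘ₗ (Ideal.Quotient.mkₐ k p).toLinearMap,
      fun q hq => by simp [Ideal.Quotient.eq_zero_iff_mem.2 hq], by simpa using hβ⟩
  obtain ⟨α, hα, hαa⟩ := hdual (fun h => hnp (Ideal.mul_mem_right _ _ h) : kAct σ g a ∉ p)
  obtain ⟨β, hβ, hβb⟩ := hdual (fun h => hnp (Ideal.mul_mem_left _ _ h) : kAct σ g' b ∉ p)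
  have h0 : coeff σ α a * coeff σ β b = 0 := eq_zero_of_valAt fun y => by
    rw [map_mul, valAt_coeff_kAct, valAt_coeff_kAct]
    rcases hp.mem_or_mem (show kAct σ y a * kAct σ y b ∈ p by rw [hprod]; exact p.zero_mem) with h | h
    · rw [hα _ h, zero_mul]
    · rw [hβ _ h, mul_zero]
  rcases mul_eq_zero.1 h0 with h | h
  · exact hαa (by rw [← valAt_coeff_kAct, h, map_zero])
  · exact hβb (by rw [← valAt_coeff_kAct, h, map_zero])

/-- Some nonzero nilpotent is fixed as soon as one exists. -/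
theorem exists_fixed_nilpotent (hs : Group.IsSolvable (pt k k ⟶ H))
    (hχ : ∀ (χ : H ⟶ Red.Gm (Spec (CommRingCat.of k))), IsMonHom χ → χ = 1) (hσ : σ.IsMult)
    (h : ¬ _root_.IsReduced A) : ∃ w : A, w ≠ 0 ∧ IsNilpotent w ∧ w ∈ σ.fixedUnder (𝟙 H) := by
  obtain ⟨v, hv, hv0⟩ : ∃ v : A, IsNilpotent v ∧ v ≠ 0 := by
    by_contra hn
    push Not at hn
    exact h ⟨hn⟩
  obtain ⟨w, hw, hw0, hwf⟩ := exists_fixed σ hs hχ ((nilradical A).restrictScalars k)
    (fun x v hv => mem_nilradical.2 (isNilpotent_kAct σ hσ x (mem_nilradical.1 hv))) (mem_nilradical.2 hv) hv0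
  exact ⟨w, hw0, mem_nilradical.1 hw, hwf⟩

/-- Some fixed zero divisors exist as soon as zero divisors exist. -/
theorem exists_fixed_zeroDivisor (hs : Group.IsSolvable (pt k k ⟶ H))
    (hχ : ∀ (χ : H ⟶ Red.Gm (Spec (CommRingCat.of k))), IsMonHom χ → χ = 1) (hσ : σ.IsMult)
    {a b : A} (ha : a ≠ 0) (hb : b ≠ 0) (hab : a * b = 0) :
    ∃ w w' : A, w ≠ 0 ∧ w' ≠ 0 ∧ w * w' = 0 ∧ w ∈ σ.fixedUnder (𝟙 H) ∧ w' ∈ σ.fixedUnder (𝟙 H) := by
  by_cases hred : _root_.IsReduced A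
  · have hstab : ∀ (c : A) (x : pt k k ⟶ H), ∀ v ∈ Submodule.span k (Set.range fun y : pt k k ⟶ H => kAct σ y c),
        kAct σ x v ∈ Submodule.span k (Set.range fun y : pt k k ⟶ H => kAct σ y c) := fun c x v hv => by
      induction hv using Submodule.span_induction with
      | mem z hz =>
        obtain ⟨y, rfl⟩ := hz
        exact Submodule.subset_span ⟨x * y, kAct_mul σ x y c⟩
      | zero => rw [map_zero]; exact zero_mem _
      | add u u' _ _ h1 h2 => rw [map_add]; exact add_mem h1 h2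
      | smul r u _ h1 => rw [map_smul]; exact Submodule.smul_mem _ r h1
    have hin : ∀ c : A, c ∈ Submodule.span k (Set.range fun y : pt k k ⟶ H => kAct σ y c) :=
      fun c => Submodule.subset_span ⟨1, kAct_one σ c⟩
    obtain ⟨w, hw, hw0, hwf⟩ := exists_fixed σ hs hχ _ (hstab a) (hin a) ha
    obtain ⟨w', hw', hw0', hwf'⟩ := exists_fixed σ hs hχ _ (hstab b) (hin b) hb
    refine ⟨w, w', hw0, hw0', ?_, hwf, hwf'⟩
    clear hw0 hwf
    induction hw using Submodule.span_induction with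
    | mem z hz =>
      obtain ⟨g, rfl⟩ := hz
      clear hw0' hwf'
      induction hw' using Submodule.span_induction with
      | mem z' hz' =>
        obtain ⟨g', rfl⟩ := hz'
        exact kAct_mul_kAct_eq_zero σ hσ hab g g'
      | zero => rw [mul_zero]
      | add u u' _ _ h1 h2 => rw [mul_add, h1, h2, add_zero]
      | smul r u _ h1 => rw [mul_smul_comm, h1, smul_zero]
    | zero => rw [zero_mul]
    | add u u' _ _ h1 h2 => rw [add_mul, h1, h2, add_zero]
    | smul r u _ h1 => rw [smul_mul_assoc, h1, smul_zero]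
  · obtain ⟨w, hw0, ⟨n, hn⟩, hwf⟩ := exists_fixed_nilpotent σ hs hχ hσ hred
    obtain ⟨m, hm, hm'⟩ : ∃ m, w ^ (m + 1) ≠ 0 ∧ w ^ (m + 2) = 0 := by
      by_contra h
      push Not at h
      have : ∀ m, w ^ (m + 1) ≠ 0 := fun m => by
        induction m with
        | zero => simpa using hw0
        | succ m ih => exact h m ih
      exact this n (by rw [pow_succ, hn, zero_mul])
    refine ⟨w, w ^ (m + 1), hw0, hm, by rw [← pow_succ']; exact hm', hwf, ?_⟩
    have hmem : w ∈ σ.fixedSubalgebra hσ (𝟙 H) := hwf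
    exact pow_mem hmem (m + 1)

/-- The unipotent radical of a Borel subgroup acts through a solvable group without characters. -/
theorem radical_facts {G Bo U : Over (Spec (CommRingCat.of k))} [GrpObj G] [GrpObj Bo] [GrpObj U]
    {iB : Bo ⟶ G} (hG : IsAffine G.left) (hB : Red.IsBorelOver k iB) {u : U ⟶ Bo} (hU : Par.IsUnipotentRadical u) :
    IsMonHom (u ≫ iB) ∧ IsAffine U.left ∧ Smooth U.hom ∧ QuasiCompact U.hom ∧ ConnectedSpace U.left ∧
      Group.IsSolvable (pt k k ⟶ U) ∧ ∀ (χ : U ⟶ Red.Gm (Spec (CommRingCat.of k))), IsMonHom χ → χ = 1 := by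
  obtain ⟨hum, huc, -, hus, huq, hug, -⟩ := hU
  obtain ⟨hi, hic, -⟩ := hB
  haveI := hum; haveI := huc; haveI := hus; haveI := hi; haveI := hic
  obtain ⟨hUc, hUn⟩ := GrothLib.Flag27.geomFibre_conditions.1 hug
  haveI := hUc
  haveI : IsAffine Bo.left := isAffine_of_isAffineHom iB.left
  haveI : IsAffine U.left := isAffine_of_isAffineHom u.left
  obtain ⟨hu, hs⟩ := GrothLib.Flag27.isUnip_of_noSubtorus hUn
  exact ⟨inferInstance, inferInstance, hus, huq, hUc, (GrothLib.Flag27.isSolvable_pt_iff U).2 hs,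
    fun χ hχ => by haveI := hχ; exact hu.char_eq_one χ⟩

theorem fixed_nilpotent_of_radical {G Bo U : Over (Spec (CommRingCat.of k))} [GrpObj G] [GrpObj Bo] [GrpObj U]
    {iB : Bo ⟶ G} (hG : IsAffine G.left) (hB : Red.IsBorelOver k iB) {u : U ⟶ Bo} (hU : Par.IsUnipotentRadical u)
    {A : Type u} [CommRing A] [Algebra k A] (ρ : GMod G A) (hρ : ρ.IsMult)
    (h : _root_.IsReduced ↥(ρ.fixedSubalgebra hρ (u ≫ iB))) : _root_.IsReduced A := by
  obtain ⟨hm, ha, hsm, hqc, hc, hs, hχ⟩ := radical_facts hG hB hU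
  haveI := hm; haveI := ha; haveI := hsm; haveI := hqc; haveI := hc
  by_contra hred
  obtain ⟨w, hw0, hwn, hwf⟩ := exists_fixed_nilpotent (resGMod ρ (u ≫ iB)) hs hχ (resGMod_isMult hρ _) hred
  rw [fixedUnder_resGMod] at hwf
  let w' : ↥(ρ.fixedSubalgebra hρ (u ≫ iB)) := ⟨w, hwf⟩
  obtain ⟨n, hn⟩ := hwn
  have : w' = 0 := IsNilpotent.eq_zero ⟨n, Subtype.ext (by simpa [w'] using hn)⟩
  exact hw0 (congrArg Subtype.val this)

theorem fixed_zeroDivisor_of_radical {G Bo U : Over (Spec (CommRingCat.of k))} [GrpObj G] [GrpObj Bo] [GrpObj U]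
    {iB : Bo ⟶ G} (hG : IsAffine G.left) (hB : Red.IsBorelOver k iB) {u : U ⟶ Bo} (hU : Par.IsUnipotentRadical u)
    {A : Type u} [CommRing A] [Algebra k A] (ρ : GMod G A) (hρ : ρ.IsMult) {a b : A} (ha' : a ≠ 0) (hb : b ≠ 0)
    (hab : a * b = 0) :
    ∃ x y : ↥(ρ.fixedSubalgebra hρ (u ≫ iB)), x ≠ 0 ∧ y ≠ 0 ∧ x * y = 0 := by
  obtain ⟨hm, ha, hsm, hqc, hc, hs, hχ⟩ := radical_facts hG hB hU
  haveI := hm; haveI := ha; haveI := hsm; haveI := hqc; haveI := hc
  obtain ⟨w, w', h1, h2, h3, h4, h5⟩ := exists_fixed_zeroDivisor (resGMod ρ (u ≫ iB)) hs hχ (resGMod_isMult hρ _) ha' hb hab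
  rw [fixedUnder_resGMod] at h4 h5
  exact ⟨⟨w, h4⟩, ⟨w', h5⟩, fun e => h1 (congrArg Subtype.val e), fun e => h2 (congrArg Subtype.val e), Subtype.ext h3⟩

end GrothLib.UnipNil1
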