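import Groth.Agent.Lib.UnipNil1.Basic
import Groth.Agent.Lib.InvNormal27.Basic
import Mathlib.RingTheory.UniqueFactorizationDomain.Basic

/-!
# Invariants of a group without characters in a factorial algebra
-/

set_option autoImplicit false
set_option linter.all false

universe u

open CategoryTheory MonoidalCategory CartesianMonoidalCategory MonObj GrpObj AlgebraicGeometry VecGrp
open scoped TensorProduct

noncomputable section

namespace GrothLib.UnipNil1

open GrothLib.Repr GrothLib.Induce27 GrothLib.Flag27 Groth.Agent.S11191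

variable {k : Type u} [Field k] [IsAlgClosed k] {H : Over (Spec (CommRingCat.of k))} [GrpObj H] [IsAffine H.left]
  [Smooth H.hom] [ConnectedSpace H.left] [QuasiCompact H.hom] {A : Type u} [CommRing A] [IsDomain A] [Algebra k A]
  (σ : GMod H A)

theorem prime_kAct (hσ : σ.IsMult) (x : pt k k ⟶ H) {p : A} (hp : Prime p) : Prime (kAct σ x p) := by
  let e : A ≃* A :=
    { toFun := kAct σ x
      invFun := kAct σ x⁻¹
      left_inv := fun a => by rw [← kAct_mul, inv_mul_cancel, kAct_one]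
      right_inv := fun a => by rw [← kAct_mul, mul_inv_cancel, kAct_one]
      map_mul' := kAct_mul_alg σ hσ x }
  exact (MulEquiv.prime_iff e).2 hp

/-- Prime factors of invariants are invariants. -/
theorem fixed_of_prime_dvd [UniqueFactorizationMonoid A] (hunits : ∀ x : Aˣ, (x : A) ∈ Set.range (algebraMap k A))
    (hχ : ∀ (χ : H ⟶ Red.Gm (Spec (CommRingCat.of k))), IsMonHom χ → χ = 1) (hσ : σ.IsMult)
    {a p : A} (ha : a ≠ 0) (haf : ∀ x : pt k k ⟶ H, kAct σ x a = a) (hp : Prime p) (hpa : p ∣ a) :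
    p ∈ σ.fixedUnder (𝟙 H) := by
  classical
  haveI : IsDomain (Fn H) := isDomain_fn_aux (G := H)
  let s := (UniqueFactorizationMonoid.factors a).toFinset
  have hline : ∀ y : pt k k ⟶ H, ∃ q ∈ s, kAct σ y p ∈ Submodule.span k {q} := fun y => by
    have hd : kAct σ y p ∣ a := by
      obtain ⟨c, hc⟩ := hpa
      exact ⟨kAct σ y c, by rw [← kAct_mul_alg σ hσ, ← hc, haf]⟩
    obtain ⟨q, hq, hqa⟩ := UniqueFactorizationMonoid.exists_mem_factors_of_dvd ha (prime_kAct σ hσ y hp).irreducible hd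
    refine ⟨q, Multiset.mem_toFinset.2 hq, ?_⟩
    obtain ⟨v, hv⟩ := hqa.symm
    obtain ⟨r, hr⟩ := hunits v
    exact Submodule.mem_span_singleton.2 ⟨r, by rw [Algebra.smul_def, hr, _root_.mul_comm]; exact hv⟩
  have hone : ∃ q ∈ s, ∀ y : pt k k ⟶ H, kAct σ y p ∈ Submodule.span k {q} := by
    by_contra hne
    push Not at hne
    choose! y hy using hne
    have hdual : ∀ q ∈ s, ∃ α : Module.Dual k A, α (kAct σ (y q) p) ≠ 0 ∧ ∀ z ∈ Submodule.span k {q}, α z = 0 :=
      fun q hq => by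
        obtain ⟨α, hα, hm⟩ := Submodule.exists_dual_map_eq_bot_of_notMem (hy q hq) inferInstance
        exact ⟨α, hα, fun z hz => by
          have : α z ∈ (Submodule.span k {q}).map α := Submodule.mem_map_of_mem hz
          rwa [hm, Submodule.mem_bot] at this⟩
    choose! α hα hα0 using hdual
    have hprod : (∏ q ∈ s, coeff σ (α q) p) = 0 := eq_zero_of_valAt fun z => by
      obtain ⟨q, hq, hz⟩ := hline z
      rw [map_prod]
      exact Finset.prod_eq_zero hq (by rw [valAt_coeff_kAct]; exact hα0 q hq _ hz)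
    obtain ⟨q, hq, h0⟩ := Finset.prod_eq_zero_iff.1 hprod
    exact hα q hq (by rw [← valAt_coeff_kAct, h0, map_zero])
  obtain ⟨q, hq, hall⟩ := hone
  obtain ⟨r, hr⟩ := Submodule.mem_span_singleton.1 (hall 1)
  rw [kAct_one] at hr
  have hr0 : r ≠ 0 := fun h => hp.ne_zero (by rw [← hr, h, zero_smul])
  refine fixedUnder_of_valAt σ _ fun t => ?_
  rw [Category.comp_id, rho_one_tmul, kAct_eq_of_eigen σ hχ hp.ne_zero (fun y => by
    obtain ⟨c, hc⟩ := Submodule.mem_span_singleton.1 (hall y)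
    exact ⟨c * r⁻¹, by rw [← hc, ← hr, smul_smul, _root_.mul_assoc, inv_mul_cancel₀ hr0, _root_.mul_one]⟩) t]

/-- Invariants in a factorial algebra are factorial. -/
theorem uniqueFactorizationMonoid_fixed [UniqueFactorizationMonoid A]
    (hunits : ∀ x : Aˣ, (x : A) ∈ Set.range (algebraMap k A))
    (hχ : ∀ (χ : H ⟶ Red.Gm (Spec (CommRingCat.of k))), IsMonHom χ → χ = 1) (hσ : σ.IsMult) :
    UniqueFactorizationMonoid ↥(σ.fixedSubalgebra hσ (𝟙 H)) := by
  classical
  let R := σ.fixedSubalgebra hσ (𝟙 H)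
  have hkfix : ∀ (a : R) (x : pt k k ⟶ H), kAct σ x (a : A) = a := fun a x => by
    have := congrArg (TensorProduct.lid k A) (a.2 k x)
    rw [Category.comp_id, rho_one_tmul] at this
    simpa using this
  refine UniqueFactorizationMonoid.of_exists_prime_factors fun a ha => ?_
  have haA : (a : A) ≠ 0 := fun h => ha (Subtype.ext h)
  obtain ⟨f, hf, u, hu⟩ := UniqueFactorizationMonoid.exists_prime_factors (a : A) haA
  have hmem : ∀ p ∈ f, p ∈ R := fun p hp =>
    fixed_of_prime_dvd σ hunits hχ hσ haA (hkfix a) (hf p hp) ((Multiset.dvd_prod hp).trans ⟨u, hu.symm⟩)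
  let g : Multiset R := f.attach.map fun p => ⟨p.1, hmem p.1 p.2⟩
  have hg : ((g.prod : R) : A) = f.prod := by
    rw [SubmonoidClass.coe_multiset_prod, Multiset.map_map]
    exact congrArg Multiset.prod (Multiset.attach_map_val f)
  refine ⟨g, fun b hb => ?_, ?_⟩
  · obtain ⟨p, -, rfl⟩ := Multiset.mem_map.1 hb
    have hp := hf p.1 p.2
    refine ⟨fun h => hp.ne_zero (congrArg Subtype.val h), fun h => hp.not_isUnit (h.map R.val), fun x y h => ?_⟩
    have hxy : (p.1 : A) ∣ (x : A) * (y : A) := map_dvd R.val h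
    have hdiv : ∀ z : R, (p.1 : A) ∣ (z : A) → (⟨p.1, hmem p.1 p.2⟩ : R) ∣ z := fun z ⟨c, hc⟩ =>
      ⟨⟨c, GrothLib.InvNormal27.mem_fixedSubalgebra_of_mul σ hσ (𝟙 H) z.2 (hmem p.1 p.2) hp.ne_zero
        (by rw [_root_.mul_comm]; exact hc.symm)⟩, Subtype.ext hc⟩
    exact (hp.dvd_or_dvd hxy).imp (hdiv x) (hdiv y)
  · obtain ⟨r, hr⟩ := hunits u
    have hr0 : r ≠ 0 := fun h => u.ne_zero (by rw [← hr, h, map_zero])
    refine ⟨(Units.mk0 r hr0).map (algebraMap k R).toMonoidHom, Subtype.ext ?_⟩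
    show ((g.prod : R) : A) * algebraMap k A r = a
    rw [hg, hr]
    exact hu

end GrothLib.UnipNil1
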